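import Cfsg.Agent.Lib.Classical.ChevModel.Generation
import Cfsg.Agent.Lib.Lie.Rel.Checks
import Cfsg.Agent.Lib.Lie.Rel.Steinberg
import Cfsg.Agent.Lib.Lie.Rel.Facts
import Cfsg.Agent.Lib.Lie.Rel.Inst

/-!
# `B₂(F) ≅ PΩ₅(F)`
-/

set_option autoImplicit false

namespace CfsgLib.Classical.ChevModel.B2

open Cfsg.Lie CfsgLib.Lie.Chev CfsgLib.Classical.ChevModel
open scoped Matrix commutatorElement

/-- the table of `B₂` -/
def tab : Tab where
  dim := 5
  beta := [0, 3, 4, 1, 2]
  anis := 0
  roots := [(3, 4, -1), (3, 0, -1), (4, 0, -1), (3, 2, -1), (1, 4, 1), (2, 0, 1), (1, 0, 1), (1, 2, 1)]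

/-- numbering of the basis -/
def code : Unit ⊕ (Fin 2 ⊕ Fin 2) → ℕ :=
  Sum.elim (fun _ => 0) (Sum.elim (fun i => 1 + i.val) (fun i => 3 + i.val))

variable (F : Type*) [Field F]

/-- the polar form -/
def polB : (Unit ⊕ (Fin 2 ⊕ Fin 2) → F) →ₗ[F] (Unit ⊕ (Fin 2 ⊕ Fin 2) → F) →ₗ[F] F :=
  LinearMap.mk₂ F (fun u v => 2 * (u (.inl ()) * v (.inl ())) +
      ∑ i : Fin 2, (u (.inr (.inl i)) * v (.inr (.inr i)) + u (.inr (.inr i)) * v (.inr (.inl i))))
    (fun a b c => by simp only [Pi.add_apply, Fin.sum_univ_two]; ring)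
    (fun a b c => by simp only [Pi.smul_apply, smul_eq_mul, Fin.sum_univ_two]; ring)
    (fun a b c => by simp only [Pi.add_apply, Fin.sum_univ_two]; ring)
    (fun a b c => by simp only [Pi.smul_apply, smul_eq_mul, Fin.sum_univ_two]; ring)

theorem code_inj : Function.Injective code := by decide +kernel

theorem isModel : IsModel tab chevB2 code (Cfsg.quadFormOdd 2 F) (polB F) where
  inj := code_inj
  lt := by decide +kernel
  surj := by decide +kernel
  col := by decide +kernel
  add := by decide +kernel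
  comm := by decide +kernel
  tor := by decide +kernel
  root := by decide +kernel
  bet_anis := by decide +kernel
  bet_invol := by decide +kernel
  qs c z := by
    simp only [Cfsg.quadFormOdd, Pi.smul_apply, smul_eq_mul, Fin.sum_univ_two]; ring
  qa x y := by
    simp only [Cfsg.quadFormOdd, polB, LinearMap.mk₂_apply, Pi.add_apply, Fin.sum_univ_two]; ring
  qb i := by
    rcases i with i | i | i <;> fin_cases i <;>
      simp [Cfsg.quadFormOdd, code, tab, Pi.single_apply, Fin.sum_univ_two]
  bb z i := by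
    have hv : ∀ j, valAt code z (code j) = z j := valAt_code code code_inj z
    rcases i with i | i | i
    · simp only [polB, LinearMap.mk₂_apply]
      rw [show tab.bet (code (.inl i)) = code (.inl i) from rfl, hv]
      simp [code, tab]
    · simp only [polB, LinearMap.mk₂_apply]
      rw [show tab.bet (code (.inr (.inl i))) = code (.inr (.inr i)) by revert i; decide +kernel, hv]
      simp [code, tab, Pi.single_apply]
    · simp only [polB, LinearMap.mk₂_apply]
      rw [show tab.bet (code (.inr (.inr i))) = code (.inr (.inl i)) by revert i; decide +kernel, hv]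
      simp [code, tab, Pi.single_apply]

/-- the first vectors of the pairs -/
def eV (i : Fin 2) : Unit ⊕ (Fin 2 ⊕ Fin 2) → F := Pi.single (.inr (.inl i)) 1
/-- the second vectors of the pairs -/
def fV (i : Fin 2) : Unit ⊕ (Fin 2 ⊕ Fin 2) → F := Pi.single (.inr (.inr i)) 1

theorem perp_eq {r : Unit ⊕ (Fin 2 ⊕ Fin 2) → F}
    (hr : ∀ i, polB F r (eV F i) = 0 ∧ polB F r (fV F i) = 0) :
    r = r (.inl ()) • Pi.single (.inl ()) 1 := by
  funext j
  rcases j with j | j | j
  · simp
  · have := (hr j).2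
    fin_cases j <;> simpa [polB, fV, Pi.single_apply, Fin.sum_univ_two] using this
  · have := (hr j).1
    fin_cases j <;> simpa [polB, eV, Pi.single_apply, Fin.sum_univ_two] using this

theorem frame : Frame (Cfsg.quadFormOdd 2 F) (polB F) (eV F) (fV F) where
  smul := (isModel F).qs
  add := (isModel F).qa
  qe i := by rw [eV, (isModel F).qb, if_neg]; revert i; decide +kernel
  qf i := by rw [fV, (isModel F).qb, if_neg]; revert i; decide +kernel
  ee i j := by fin_cases i <;> fin_cases j <;> simp [polB, eV, Pi.single_apply, Fin.sum_univ_two]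
  ff i j := by fin_cases i <;> fin_cases j <;> simp [polB, fV, Pi.single_apply, Fin.sum_univ_two]
  ef i j := by fin_cases i <;> fin_cases j <;> simp [polB, eV, fV, Pi.single_apply, Fin.sum_univ_two]
  aniso r hr hq := by
    rw [perp_eq F hr, (isModel F).qs, (isModel F).qb, if_pos (by decide +kernel), mul_one] at hq
    rw [perp_eq F hr, pow_eq_zero_iff (by norm_num : (2 : ℕ) ≠ 0) |>.1 hq, zero_smul]

theorem gens : Gens (modelHom (isModel F)).range (actQ (Cfsg.quadFormOdd 2 F))
    (Cfsg.quadFormOdd 2 F) (polB F) (eV F) (fV F) where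
  pairE k j hkj c := by
    constructor <;> refine inH_pair (isModel F) (frame F) ?_ ?_ c <;> revert k j <;> decide +kernel
  pairF k j hkj c := by
    constructor <;> refine inH_pair (isModel F) (frame F) ?_ ?_ c <;> revert k j <;> decide +kernel
  restE k r hr := by
    rw [perp_eq F hr]
    refine inH_pair (isModel F) (frame F) ?_ ?_ _ <;> revert k <;> decide +kernel
  restF k r hr := by
    rw [perp_eq F hr]
    refine inH_pair (isModel F) (frame F) ?_ ?_ _ <;> revert k <;> decide +kernel

theorem omega_eq (hF : ∃ a : F, a ≠ 0 ∧ a ≠ 1) :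
    Cfsg.Omega F (Cfsg.quadFormOdd 2 F) = (modelHom (isModel F)).range := by
  refine le_antisymm ?_ (range_le_commutator _
    ((stRel certB2 F witB2).perfect (perfectData_of_big certB2 (by decide +kernel) F hF)))
  refine commutator_le_of_factor _
    {t | ∀ i, ∃ c : F, actQ _ t (Pi.single i 1) = c • Pi.single i 1} (fun g => ?_)
    (fun t ht r hr => conj_mem_range (isModel F) (frame F) id ht (fun i j h1 h2 => ⟨h2, h1⟩) hr)
    fun t ht u hu => ?_
  · obtain ⟨x, hx, hfix⟩ := exists_reduce (actQ_Q) (frame F) (gens F) g 2 le_rfl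
      (Or.inr ⟨Pi.single (.inl ()) 1, fun i => by
        fin_cases i <;> simp [polB, eV, fV, Pi.single_apply, Fin.sum_univ_two],
        by rw [(isModel F).qb, if_pos (by decide +kernel)]; exact one_ne_zero⟩)
    refine ⟨x, hx, ?_⟩
    rintro (i | i | i)
    · refine ⟨actQ _ (x * g) (Pi.single (.inl i) 1) (.inl ()), perp_eq F fun j => ?_⟩
      obtain ⟨⟨c, hc⟩, d, hd⟩ := hfix j j.2
      have hne : ∀ (k : Unit ⊕ (Fin 2 ⊕ Fin 2)) (c : F),
          actQ (Cfsg.quadFormOdd 2 F) (x * g) (Pi.single k 1) = c • Pi.single k 1 → c ≠ 0 := by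
        intro k c hc e
        rw [e, zero_smul] at hc
        simpa using congrFun (act_inj (act := actQ (Cfsg.quadFormOdd 2 F)) actQ_Q (x * g) hc) k
      have h1 := (frame F).polar_map (φ := actQ _ (x * g)) (actQ_Q _) (Pi.single (.inl i) 1) (eV F j)
      have h2 := (frame F).polar_map (φ := actQ _ (x * g)) (actQ_Q _) (Pi.single (.inl i) 1) (fV F j)
      rw [hc, map_smul, smul_eq_mul, show polB F (Pi.single (.inl i) 1) (eV F j) = 0 by
        fin_cases j <;> simp [polB, eV, Pi.single_apply, Fin.sum_univ_two], mul_eq_zero,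
        or_iff_right (hne _ c hc)] at h1
      rw [hd, map_smul, smul_eq_mul, show polB F (Pi.single (.inl i) 1) (fV F j) = 0 by
        fin_cases j <;> simp [polB, fV, Pi.single_apply, Fin.sum_univ_two], mul_eq_zero,
        or_iff_right (hne _ d hd)] at h2
      exact ⟨h1, h2⟩
    · exact (hfix i i.2).1
    · exact (hfix i i.2).2
  · have e : t * u = u * t := by
      refine ext_act fun z => ?_
      refine congrFun (congrArg DFunLike.coe ?_) z
      refine (Pi.basisFun F _).ext fun i => ?_
      obtain ⟨c, hc⟩ := ht i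
      obtain ⟨d, hd⟩ := hu i
      rw [Pi.basisFun_apply, map_mul, map_mul, Module.End.mul_apply, Module.End.mul_apply, hd,
        map_smul, hc, map_smul, hd, smul_comm]
    rw [commutatorElement_eq_one_iff_mul_comm.2 e]
    exact one_mem _

theorem nonempty_equiv (hF : ∃ a : F, a ≠ 0 ∧ a ≠ 1) :
    Nonempty (↥(chevB2.group F) ≃* Cfsg.POmega F (Cfsg.quadFormOdd 2 F)) := by
  have hc : Rel.Connected chevB2 := connected_of_mem (by simp)
  have hperf := perfectData_of_big certB2 (by decide +kernel) F hF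
  haveI := (CfsgLib.Lie.Chev.isSimple certB2 F hc hperf).1
  set f : chevB2.SteinbergGroup F →* Cfsg.Omega F (Cfsg.quadFormOdd 2 F) :=
    (modelHom (isModel F)).codRestrict _ fun x => (omega_eq F hF).symm ▸ ⟨x, rfl⟩
  have hf : Function.Surjective f := by
    rintro ⟨y, hy⟩
    rw [omega_eq F hF] at hy
    obtain ⟨x, rfl⟩ := hy
    exact ⟨x, rfl⟩
  haveI : Nontrivial (Cfsg.Omega F (Cfsg.quadFormOdd 2 F)) := by
    refine ⟨⟨f (chevB2.stGen F 4 1), 1, fun e => ?_⟩⟩
    have h1 : rootG (isModel F) 4 (1 : F) = 1 := by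
      rw [← modelHom_gen (isModel F)]
      exact congrArg Subtype.val e
    have h2 := congrArg (fun g : Cfsg.isometryGroup F (Cfsg.quadFormOdd 2 F) =>
      ((g : GL (Unit ⊕ (Fin 2 ⊕ Fin 2)) F) : Matrix (Unit ⊕ (Fin 2 ⊕ Fin 2)) (Unit ⊕ (Fin 2 ⊕ Fin 2)) F)
        (Sum.inr (Sum.inl 0)) (Sum.inr (Sum.inl 1))) h1
    rw [rootG_val (isModel F) (by decide +kernel)] at h2
    simp [rootM, show tab.ents 4 = [(1, 1, 2, 1), (1, 4, 3, -1)] from rfl, code] at h2
  exact nonempty_equiv_central_quotient (stTheta certB2 F) (stTheta_surjective certB2 F)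
    (center_stGroup certB2 F witB2 hc).symm f hf ((stRel certB2 F witB2).perfect hperf)

end CfsgLib.Classical.ChevModel.B2
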