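import Mathlib.GroupTheory.QuotientGroup.Basic
import Mathlib.GroupTheory.Commutator.Basic
import Mathlib.GroupTheory.Abelianization.Defs
import Mathlib.GroupTheory.Subgroup.Simple
import Mathlib.Tactic.Group

/-!
# Central quotients of images of a perfect group, and commutator subgroups of factorised groups
-/

set_option autoImplicit false

namespace CfsgLib.Classical.ChevModel

open scoped commutatorElement

/-- Two nontrivial images of a perfect group which is simple modulo its centre have isomorphic
central quotients. -/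
theorem nonempty_equiv_central_quotient {P C H : Type*} [Group P] [Group C] [Group H]
    [IsSimpleGroup C] (θ : P →* C) (hθ : Function.Surjective θ) (hker : θ.ker = Subgroup.center P)
    (f : P →* H) (hf : Function.Surjective f) (hperf : commutator P = ⊤) [Nontrivial H] :
    Nonempty (C ≃* H ⧸ Subgroup.center H) := by
  let π : P →* H ⧸ Subgroup.center H := (QuotientGroup.mk' _).comp f
  have hπ : Function.Surjective π := (QuotientGroup.mk'_surjective _).comp hf
  have hle : θ.ker ≤ π.ker := by
    intro z hz
    rw [hker] at hz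
    rw [MonoidHom.mem_ker]
    refine (QuotientGroup.eq_one_iff _).2 (Subgroup.mem_center_iff.2 fun y => ?_)
    obtain ⟨y, rfl⟩ := hf y
    rw [← map_mul, ← map_mul, Subgroup.mem_center_iff.1 hz y]
  have hK : π.ker = θ.ker := by
    refine le_antisymm (fun z hz => ?_) hle
    haveI : (π.ker.map θ).Normal := Subgroup.Normal.map inferInstance _ hθ
    rcases (inferInstance : (π.ker.map θ).Normal).eq_bot_or_eq_top with e | e
    · exact Subgroup.mem_bot.1 (e ▸ Subgroup.mem_map_of_mem θ hz : θ z ∈ (⊥ : Subgroup C))
    · exfalso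
      have htop : π.ker = ⊤ := by
        rw [← sup_eq_left.2 hle, ← Subgroup.comap_map_eq, e, Subgroup.comap_top]
      have hab : ∀ x y : P, f x * f y = f y * f x := fun x y => by
        have hx : f x ∈ Subgroup.center H :=
          (QuotientGroup.eq_one_iff _).1 (MonoidHom.mem_ker.1 (htop ▸ Subgroup.mem_top x))
        exact (Subgroup.mem_center_iff.1 hx (f y)).symm
      have h2 : commutator P ≤ f.ker := by
        rw [commutator_def, Subgroup.commutator_le]
        intro x _ y _
        rw [MonoidHom.mem_ker, map_commutatorElement]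
        exact commutatorElement_eq_one_iff_mul_comm.2 (hab x y)
      rw [hperf, top_le_iff] at h2
      obtain ⟨u, v, huv⟩ := exists_pair_ne H
      obtain ⟨u, rfl⟩ := hf u
      obtain ⟨v, rfl⟩ := hf v
      exact huv (by rw [MonoidHom.mem_ker.1 (h2 ▸ Subgroup.mem_top u),
        MonoidHom.mem_ker.1 (h2 ▸ Subgroup.mem_top v)])
  exact ⟨((QuotientGroup.quotientKerEquivOfSurjective θ hθ).symm.trans
    (QuotientGroup.quotientMulEquivOfEq hK.symm)).trans
    (QuotientGroup.quotientKerEquivOfSurjective π hπ)⟩

/-- If every element is a product from `R` and `T`, `T` normalizes `R` and commutators of `T` lie in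
`R`, the commutator subgroup lies in `R`. -/
theorem commutator_le_of_factor {G : Type*} [Group G] (R : Subgroup G) (T : Set G)
    (hgen : ∀ g, ∃ r ∈ R, r * g ∈ T) (hnorm : ∀ t ∈ T, ∀ r ∈ R, t * r * t⁻¹ ∈ R)
    (hcomm : ∀ t ∈ T, ∀ u ∈ T, ⁅t, u⁆ ∈ R) : commutator G ≤ R := by
  haveI : R.Normal := ⟨fun r hr g => by
    obtain ⟨x, hx, ht⟩ := hgen g
    have h1 := mul_mem (mul_mem (inv_mem hx) (hnorm _ ht r hr)) hx
    rwa [show x⁻¹ * (x * g * r * (x * g)⁻¹) * x = g * r * g⁻¹ by group] at h1⟩
  rw [commutator_def, Subgroup.commutator_le]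
  intro g _ k _
  obtain ⟨x, hx, hg⟩ := hgen g
  obtain ⟨y, hy, hk⟩ := hgen k
  rw [← QuotientGroup.eq_one_iff]
  have h1 : ((⁅x * g, y * k⁆ : G) : G ⧸ R) = 1 := (QuotientGroup.eq_one_iff _).2 (hcomm _ hg _ hk)
  change QuotientGroup.mk' R ⁅g, k⁆ = 1
  change QuotientGroup.mk' R ⁅x * g, y * k⁆ = 1 at h1
  rw [map_commutatorElement] at h1 ⊢
  simpa [map_mul, (QuotientGroup.eq_one_iff x).2 hx, (QuotientGroup.eq_one_iff y).2 hy] using h1

/-- A perfect image lies in the commutator subgroup. -/
theorem range_le_commutator {P G : Type*} [Group P] [Group G] (f : P →* G)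
    (hperf : commutator P = ⊤) : f.range ≤ commutator G := by
  rw [MonoidHom.range_eq_map, ← hperf, commutator_def, Subgroup.map_commutator, commutator_def]
  exact Subgroup.commutator_mono le_top le_top

end CfsgLib.Classical.ChevModel
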