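import Cfsg.Agent.Lib.Classical.ChevModel.Hom
import Cfsg.Agent.Lib.Classical.ChevModel.Glue

/-!
# The image of a model is normalised by monomial isometries
-/

set_option autoImplicit false

namespace CfsgLib.Classical.ChevModel

open Cfsg.Lie (ChevalleyDatum)
open scoped Matrix

/-- a root with the vectors `i`, `j` in either order -/
def Tab.hasPair (T : Tab) (D : ChevalleyDatum) (i j : ℕ) : Bool :=
  (List.range D.nroots).any fun r =>
    (Nat.beq (T.wroot r) i && Nat.beq (T.aroot r) j) || (Nat.beq (T.wroot r) j && Nat.beq (T.aroot r) i)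

variable {F : Type*} [Field F] {ι : Type} [Fintype ι] [DecidableEq ι] {T : Tab} {D : ChevalleyDatum}
  {code : ι → ℕ} {Q : (ι → F) → F} {B : (ι → F) →ₗ[F] (ι → F) →ₗ[F] F}
  (M : IsModel T D code Q B) {m : ℕ} {e f : Fin m → ι → F} (hfr : Frame Q B e f)
include hfr

theorem inH_pair {i j : ι} (hi : code i ≠ T.anis) (hp : T.hasPair D (code i) (code j) = true) (c : F) :
    InH (modelHom M).range (actQ Q) Q B (Pi.single i 1) (c • Pi.single j 1) := by
  simp only [Tab.hasPair, List.any_eq_true, List.mem_range, Bool.or_eq_true, Bool.and_eq_true] at hp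
  obtain ⟨r, hr, h⟩ := hp
  have hs : (T.sgn r : F) * (T.sgn r : F) = 1 := by
    exact_mod_cast congrArg (Int.cast : ℤ → F) (M.root r hr).2.2.2.2.2
  have hmem : ∀ τ, rootG M r τ ∈ (modelHom M).range := fun τ => ⟨D.stGen F r τ, modelHom_gen M r τ⟩
  rcases h with ⟨h1, h2⟩ | ⟨h1, h2⟩
  · refine ⟨_, hmem ((T.sgn r : F) * c), fun z => ?_⟩
    rw [actQ_apply, rootG_val M hr, root_eq_E M hr _ (Nat.eq_of_beq_eq_true h1).symm
      (Nat.eq_of_beq_eq_true h2).symm, ← mul_assoc, hs, one_mul]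
  · refine ⟨_, hmem ((T.sgn r : F) * -c), fun z => ?_⟩
    rw [actQ_apply, rootG_val M hr, root_eq_E M hr _ (Nat.eq_of_beq_eq_true h1).symm
      (Nat.eq_of_beq_eq_true h2).symm, ← mul_assoc, hs, one_mul, E_swap hfr (a := Pi.single i 1), neg_neg]
    · rw [M.qb, if_neg]
      rw [← Nat.eq_of_beq_eq_true h1]
      exact (M.root r hr).2.2.2.1
    · rw [M.qb, if_neg hi]

theorem conj_mem_range {t : Cfsg.isometryGroup F Q} (π : ι → ι)
    (hmono : ∀ i, ∃ c : F, actQ Q t (Pi.single i 1) = c • Pi.single (π i) 1)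
    (hpair : ∀ i j, T.hasPair D (code i) (code j) = true → code i ≠ T.anis →
      code (π i) ≠ T.anis ∧ T.hasPair D (code (π i)) (code (π j)) = true)
    {g : Cfsg.isometryGroup F Q} (hg : g ∈ (modelHom M).range) :
    t * g * t⁻¹ ∈ (modelHom M).range := by
  suffices h : (modelHom M).range ≤ (modelHom M).range.comap (MulAut.conj t).toMonoidHom from h hg
  conv_lhs => rw [modelHom_range M]
  refine (Subgroup.closure_le _).2 ?_
  rintro _ ⟨r, hr, τ, rfl⟩
  show t * rootG M r τ * t⁻¹ ∈ (modelHom M).range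
  obtain ⟨w, a, hw, ha, -, -, -⟩ := root_vectors M hr
  have hwan : code w ≠ T.anis := by rw [hw]; exact (M.root r hr).2.2.2.1
  have hp : T.hasPair D (code w) (code a) = true := by
    simp only [Tab.hasPair, List.any_eq_true, List.mem_range]
    exact ⟨r, hr, by rw [hw, ha]; simp⟩
  obtain ⟨hπw, hπp⟩ := hpair w a hp hwan
  obtain ⟨c, hc⟩ := hmono w
  obtain ⟨d, hd⟩ := hmono a
  obtain ⟨g, hg, hgz⟩ := inH_pair M hfr hπw hπp (c * ((T.sgn r : F) * τ * d))
  convert hg using 1
  refine ext_act fun z => ?_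
  rw [hgz, map_mul, map_mul, Module.End.mul_apply, Module.End.mul_apply, actQ_apply (rootG M r τ),
    rootG_val M hr, root_eq_E M hr τ hw ha,
    E_conj hfr (φ := actQ Q t) (ψ := actQ Q t⁻¹) (actQ_Q t)
      (fun v => by rw [← Module.End.mul_apply, ← map_mul, mul_inv_cancel, map_one, Module.End.one_apply]),
    hc, map_smul, hd, smul_smul, E_smul hfr]

end CfsgLib.Classical.ChevModel
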