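import Cfsg.Agent.Lib.Classical.ChevModel.Model
import Mathlib.LinearAlgebra.Matrix.ToLin

/-!
# The homomorphism of Steinberg's group into an isometry group
-/

set_option autoImplicit false

namespace CfsgLib.Classical.ChevModel

open Cfsg.Lie (ChevalleyDatum)
open scoped Matrix

variable {F : Type*} [Field F] {ι : Type} [Fintype ι] [DecidableEq ι]

/-- the action of the isometry group by linear maps -/
def actQ (Q : (ι → F) → F) : Cfsg.isometryGroup F Q →* Module.End F (ι → F) where
  toFun g := Matrix.toLinAlgEquiv' ((g : GL ι F) : Matrix ι ι F)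
  map_one' := by simp
  map_mul' g h := by simp [map_mul]

theorem actQ_apply {Q : (ι → F) → F} (g : Cfsg.isometryGroup F Q) (z : ι → F) :
    actQ Q g z = ((g : GL ι F) : Matrix ι ι F) *ᵥ z := Matrix.toLinAlgEquiv'_apply _ _

theorem actQ_Q {Q : (ι → F) → F} (g : Cfsg.isometryGroup F Q) (z : ι → F) :
    Q (actQ Q g z) = Q z := by
  rw [actQ_apply]
  exact g.2 z z

theorem ext_act {Q : (ι → F) → F} {g h : Cfsg.isometryGroup F Q}
    (e : ∀ z, actQ Q g z = actQ Q h z) : g = h := by
  refine Subtype.ext (Units.ext (Matrix.ext_of_mulVec_single fun j => ?_))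
  rw [← actQ_apply, ← actQ_apply, e]

/-- a model of a Steinberg group by isometries of `Q` -/
structure IsModel (T : Tab) (D : ChevalleyDatum) (code : ι → ℕ) (Q : (ι → F) → F)
    (B : (ι → F) →ₗ[F] (ι → F) →ₗ[F] F) : Prop where
  inj : Function.Injective code
  lt : ∀ i, code i < T.dim
  surj : ∀ c < T.dim, ∃ i, code i = c
  col : T.chkCol D = true
  add : T.chkAddT D = true
  comm : T.chkCommT D = true
  tor : T.chkH D = true
  root : ∀ r < D.nroots, T.wroot r < T.dim ∧ T.aroot r < T.dim ∧ T.wroot r ≠ T.aroot r ∧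
    T.wroot r ≠ T.anis ∧ T.aroot r ≠ T.bet (T.wroot r) ∧ T.sgn r * T.sgn r = 1
  bet_anis : T.anis < T.dim → T.bet T.anis = T.anis
  bet_invol : ∀ c < T.dim, T.bet c < T.dim ∧ T.bet (T.bet c) = c
  qs : ∀ (c : F) z, Q (c • z) = c ^ 2 * Q z
  qa : ∀ x y, Q (x + y) = Q x + Q y + B x y
  qb : ∀ i, Q (Pi.single i 1) = if code i = T.anis then 1 else 0
  bb : ∀ z i, B z (Pi.single i 1) =
    (if code i = T.anis then 2 else 1) * valAt code z (T.bet (code i))

variable {T : Tab} {D : ChevalleyDatum} {code : ι → ℕ} {Q : (ι → F) → F}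
  {B : (ι → F) →ₗ[F] (ι → F) →ₗ[F] F} (M : IsModel T D code Q B)
include M

/-- The root elements are Eichler transformations. -/
theorem root_eq_E {r : ℕ} (hr : r < D.nroots) (t : F) {w a : ι} (hw : code w = T.wroot r)
    (ha : code a = T.aroot r) (z : ι → F) :
    rootM T code F r t *ᵥ z =
      E Q B (Pi.single w 1) (((T.sgn r : F) * t) • Pi.single a 1) z := by
  obtain ⟨-, -, hwa, hwan, hab, hs⟩ := M.root r hr
  funext i
  rw [rootM_mulVec, E, map_smul, M.bb, M.bb, M.qs, M.qb, hw, ha, if_neg hwan, one_mul]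
  simp only [Pi.add_apply, Pi.sub_apply, Pi.smul_apply, smul_eq_mul, Pi.single_apply]
  have hiw : (i = w) ↔ T.wroot r = code i := ⟨fun e => by rw [e, hw], fun e => M.inj (hw.trans e).symm⟩
  have hia : (i = a) ↔ T.aroot r = code i := ⟨fun e => by rw [e, ha], fun e => M.inj (ha.trans e).symm⟩
  simp only [hiw, hia]
  by_cases hx : T.aroot r = T.anis
  · rw [Tab.ents, show Nat.beq (T.aroot r) T.anis = true by simp [hx], cond_true, if_pos hx, if_pos hx]
    simp only [List.map_cons, List.map_nil, List.sum_cons, List.sum_nil, add_zero]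
    rw [hx, M.bet_anis (hx ▸ (M.root r hr).2.1)]
    have hs' : (T.sgn r : F) * (T.sgn r : F) = 1 := by exact_mod_cast congrArg (Int.cast : ℤ → F) hs
    by_cases h1 : T.wroot r = code i
    · have h2 : T.anis ≠ code i := fun e => hwan (h1.trans e.symm)
      simp only [if_pos h1, if_neg h2]
      push_cast
      linear_combination (t ^ 2 * valAt code z (T.bet (T.wroot r))) * hs'
    · by_cases h2 : T.anis = code i
      · simp only [if_neg h1, if_pos h2]
        push_cast; ring
      · simp only [if_neg h1, if_neg h2]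
        ring
  · rw [Tab.ents, show Nat.beq (T.aroot r) T.anis = false from
      Bool.eq_false_iff.2 fun e => hx (Nat.eq_of_beq_eq_true e), cond_false, if_neg hx, if_neg hx]
    simp only [List.map_cons, List.map_nil, List.sum_cons, List.sum_nil, add_zero]
    by_cases h1 : T.wroot r = code i
    · have h2 : T.aroot r ≠ code i := fun e => hwa (h1.trans e.symm)
      simp only [if_pos h1, if_neg h2]
      ring
    · by_cases h2 : T.aroot r = code i
      · simp only [if_neg h1, if_pos h2]
        push_cast; ring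
      · simp only [if_neg h1, if_neg h2]
        ring

theorem root_vectors {r : ℕ} (hr : r < D.nroots) :
    ∃ w a : ι, code w = T.wroot r ∧ code a = T.aroot r ∧ w ≠ a ∧ Q (Pi.single w 1) = 0 ∧
      B (Pi.single w 1) (Pi.single a 1) = 0 := by
  obtain ⟨hw, ha, hwa, hwan, hab, -⟩ := M.root r hr
  obtain ⟨w, hw⟩ := M.surj _ hw
  obtain ⟨a, ha⟩ := M.surj _ ha
  refine ⟨w, a, hw, ha, fun e => hwa (by rw [← hw, ← ha, e]), ?_, ?_⟩
  · rw [M.qb, if_neg (by rw [hw]; exact hwan)]
  · rw [M.bb]
    refine mul_eq_zero_of_right _ ?_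
    obtain ⟨b, hb⟩ := M.surj _ (M.bet_invol _ (M.lt a)).1
    rw [← hb, valAt_code code M.inj, Pi.single_apply, if_neg]
    intro e
    refine hab ?_
    rw [← ha, ← (M.bet_invol _ (M.lt a)).2, ← hb, e, hw]

theorem root_preserves {r : ℕ} (hr : r < D.nroots) (t : F) (z : ι → F) :
    Q (rootM T code F r t *ᵥ z) = Q z := by
  obtain ⟨w, a, hw, ha, -, hQw, hBwa⟩ := root_vectors M hr
  rw [root_eq_E M hr t hw ha, E]
  set x : ι → F := Pi.single w 1
  set y : ι → F := ((T.sgn r : F) * t) • Pi.single a 1
  have hxy : B x y = 0 := by rw [map_smul, hBwa, smul_zero]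
  have hyx : B y x = 0 := by
    have e1 := M.qa x y
    rw [add_comm x y, M.qa, hxy] at e1
    linear_combination e1
  clear_value x y
  set p := B z y - Q y * B z x
  rw [sub_eq_add_neg, ← neg_smul, M.qa, M.qa, M.qs, M.qs, hQw, map_smul, map_smul, map_add,
    LinearMap.add_apply, map_smul, LinearMap.smul_apply, smul_eq_mul, smul_eq_mul, hxy, smul_zero,
    add_zero]
  ring

theorem rootM_zero {r : ℕ} : rootM T code F r (0 : F) = 1 := by
  refine Matrix.ext_of_mulVec_single fun j => funext fun i => ?_
  rw [rootM_mulVec, Matrix.one_mulVec]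
  refine add_eq_left.2 (List.sum_eq_zero fun x hx => ?_)
  obtain ⟨f, hf, rfl⟩ := List.mem_map.1 hx
  have hd : f.1 = 1 ∨ f.1 = 2 := by
    unfold Tab.ents at hf
    cases h : Nat.beq (T.aroot r) T.anis <;> simp [h] at hf <;>
      rcases hf with rfl | rfl | rfl <;> simp
  split_ifs
  · rcases hd with e | e <;> simp [e]
  · rfl

/-- the root element of the isometry group -/
noncomputable def rootG (r : ℕ) (t : F) : Cfsg.isometryGroup F Q :=
  if h : r < D.nroots then
    ⟨⟨rootM T code F r t, rootM T code F r (-t),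
      by rw [rootM_add T code M.inj M.lt M.surj M.col M.add h, add_neg_cancel, rootM_zero M],
      by rw [rootM_add T code M.inj M.lt M.surj M.col M.add h, neg_add_cancel, rootM_zero M]⟩,
      fun z _ => root_preserves M h t z⟩
  else 1

theorem rootG_val {r : ℕ} (hr : r < D.nroots) (t : F) :
    ((rootG M r t : GL ι F) : Matrix ι ι F) = rootM T code F r t := by
  rw [rootG, dif_pos hr]

theorem lift_stX' (r : ℕ) (t : F) :
    FreeGroup.lift (fun q : Fin D.nroots × F => rootG M q.1 q.2) (D.stX r t) = rootG M r t := by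
  unfold ChevalleyDatum.stX
  split_ifs with h
  · exact FreeGroup.lift_apply_of
  · rw [map_one, rootG, dif_neg h]

theorem lift_word_val (w : List (ℕ × F)) (hw : ∀ p ∈ w, p.1 < D.nroots) :
    ((FreeGroup.lift (fun q : Fin D.nroots × F => rootG M q.1 q.2) (D.stWord w) : GL ι F) :
        Matrix ι ι F) = (w.map fun p => rootM T code F p.1 p.2).prod := by
  rw [ChevalleyDatum.stWord, map_list_prod, List.map_map]
  induction w with
  | nil => simp
  | cons p w ih =>
    rw [List.map_cons, List.prod_cons, Subgroup.coe_mul, Units.val_mul, ih fun q hq =>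
      hw q (List.mem_cons_of_mem _ hq), List.map_cons, List.prod_cons, Function.comp_apply, lift_stX',
      rootG_val M (hw p (List.mem_cons_self ..))]

theorem rels_model : ∀ g ∈ D.steinbergRels F,
    FreeGroup.lift (fun q : Fin D.nroots × F => rootG M q.1 q.2) g = 1 := by
  rintro g ((⟨r, t, u, hr, rfl⟩ | ⟨r, s, t, u, hr, hs, hsr, hsn, rfl⟩) | ⟨r, t, u, hr, ht, hu, rfl⟩)
  · simp only [map_mul, map_inv, lift_stX', mul_inv_eq_one]
    refine Subtype.ext (Units.ext ?_)
    rw [Subgroup.coe_mul, Units.val_mul, rootG_val M hr, rootG_val M hr, rootG_val M hr,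
      rootM_add T code M.inj M.lt M.surj M.col M.add hr]
  · have hc := M.comm
    simp only [Tab.chkCommT, List.all_eq_true, List.mem_range, Bool.or_eq_true, Bool.and_eq_true] at hc
    obtain ⟨hk, -⟩ := (hc r hr s hs).resolve_left fun e =>
      e.elim (fun e => hsr (Nat.eq_of_beq_eq_true e)) fun e => hsn (Nat.eq_of_beq_eq_true e)
    have hw : ∀ p ∈ D.commWord F r s t u, p.1 < D.nroots := fun p hp => by
      simp only [ChevalleyDatum.commWord, List.mem_map] at hp
      obtain ⟨c, hc, rfl⟩ := hp
      exact Nat.le_of_ble_eq_true (hk c hc)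
    simp only [map_mul, map_inv, lift_stX', mul_inv_eq_one]
    have h : rootG M s u * rootG M r t = rootG M r t * rootG M s u *
        FreeGroup.lift (fun q : Fin D.nroots × F => rootG M q.1 q.2) (D.stWord (D.commWord F r s t u)) := by
      refine Subtype.ext (Units.ext ?_)
      rw [Subgroup.coe_mul, Units.val_mul, Subgroup.coe_mul, Units.val_mul, Subgroup.coe_mul,
        Units.val_mul, rootG_val M hr, rootG_val M hs, lift_word_val M _ hw,
        rootM_comm T code M.inj M.lt M.surj M.col M.comm hr hs hsr hsn]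
    rw [mul_assoc _ (rootG M s u), h]
    group
  · rw [map_mul, map_mul, map_inv, mul_inv_eq_one]
    have hw : ∀ x : F, ∀ p ∈ D.hWord r x, p.1 < D.nroots := fun x p hp => by
      have hn := (col_lt T M.col hr).1
      simp only [ChevalleyDatum.hWord, ChevalleyDatum.nWord, List.cons_append, List.nil_append,
        List.mem_cons, List.not_mem_nil, or_false] at hp
      rcases hp with rfl | rfl | rfl | rfl | rfl | rfl <;> first | exact hr | exact hn
    refine Subtype.ext (Units.ext ?_)
    rw [Subgroup.coe_mul, Units.val_mul, ChevalleyDatum.stH, ChevalleyDatum.stH, ChevalleyDatum.stH,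
      lift_word_val M _ (hw t), lift_word_val M _ (hw u), lift_word_val M _ (hw _),
      rootM_h T code M.inj M.lt M.surj M.col M.tor hr ht, rootM_h T code M.inj M.lt M.surj M.col M.tor hr hu,
      rootM_h T code M.inj M.lt M.surj M.col M.tor hr (mul_ne_zero ht hu), Matrix.diagonal_mul_diagonal]
    simp only [mul_zpow]

/-- Steinberg's group to the isometry group -/
noncomputable def modelHom : D.SteinbergGroup F →* Cfsg.isometryGroup F Q :=
  PresentedGroup.toGroup (rels_model M)

theorem modelHom_gen (r : ℕ) (t : F) : modelHom M (D.stGen F r t) = rootG M r t := by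
  show PresentedGroup.toGroup _ (PresentedGroup.mk _ (D.stX r t)) = _
  rw [← lift_stX' M r t]
  rfl

theorem modelHom_range :
    (modelHom M).range = Subgroup.closure {g | ∃ r < D.nroots, ∃ t : F, g = rootG M r t} := by
  refine le_antisymm ?_ ((Subgroup.closure_le _).2 ?_)
  · rw [MonoidHom.range_eq_map, ← PresentedGroup.closure_range_of (D.steinbergRels F),
      MonoidHom.map_closure]
    refine Subgroup.closure_mono ?_
    rintro _ ⟨_, ⟨p, rfl⟩, rfl⟩
    refine ⟨p.1, p.1.2, p.2, ?_⟩
    rw [← modelHom_gen M, ChevalleyDatum.stGen, ChevalleyDatum.stX, dif_pos p.1.2]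
    rfl
  · rintro _ ⟨r, -, t, rfl⟩
    exact ⟨D.stGen F r t, modelHom_gen M r t⟩

end CfsgLib.Classical.ChevModel
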