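import Mathlib.LinearAlgebra.Span.Basic
import Mathlib.LinearAlgebra.BilinearMap
import Mathlib.Algebra.Algebra.Bilinear
import Mathlib.Data.Fintype.BigOperators
import Mathlib.Tactic.LinearCombination
import Mathlib.Tactic.Module
import Mathlib.Tactic.FieldSimp
import Mathlib.Tactic.Group

/-!
# Reduction of isometries to monomial form by Eichler transformations

`exists_reduce`: if a subgroup `H` of a group of isometries of a quadratic space with hyperbolic
pairs `e i`, `f i` contains the elementary Eichler transformations, every isometry can be moved by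
`H` to one fixing the lines of the pairs.  This works over any field, also when the polar form is
degenerate.
-/

set_option autoImplicit false

namespace CfsgLib.Classical.ChevModel

variable {F : Type*} [Field F] {V : Type*} [AddCommGroup V] [Module F V]

/-- A quadratic map with hyperbolic pairs whose common orthogonal is anisotropic. -/
structure Frame (Q : V → F) (B : V →ₗ[F] V →ₗ[F] F) {m : ℕ} (e f : Fin m → V) : Prop where
  smul : ∀ (c : F) x, Q (c • x) = c ^ 2 * Q x
  add : ∀ x y, Q (x + y) = Q x + Q y + B x y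
  qe : ∀ i, Q (e i) = 0
  qf : ∀ i, Q (f i) = 0
  ee : ∀ i j, B (e i) (e j) = 0
  ff : ∀ i j, B (f i) (f j) = 0
  ef : ∀ i j, B (e i) (f j) = if i = j then 1 else 0
  aniso : ∀ r, (∀ i, B r (e i) = 0 ∧ B r (f i) = 0) → Q r = 0 → r = 0

variable {Q : V → F} {B : V →ₗ[F] V →ₗ[F] F} {m : ℕ} {e f : Fin m → V}

namespace Frame

variable (h : Frame Q B e f)
include h

theorem comm (x y : V) : B x y = B y x := by
  have h1 := h.add x y
  have h2 := h.add y x
  rw [add_comm y x] at h2
  linear_combination h2 - h1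

theorem self_eq (x : V) : B x x = 2 * Q x := by
  have h1 := h.add x x
  rw [← two_smul F x, h.smul] at h1
  linear_combination -h1

theorem q_zero : Q 0 = 0 := by
  have h1 := h.smul 0 0
  rw [zero_smul] at h1
  rw [h1]; ring

theorem fe (i j : Fin m) : B (f i) (e j) = if j = i then 1 else 0 := by rw [h.comm, h.ef]

theorem swap : Frame Q B f e where
  smul := h.smul
  add := h.add
  qe := h.qf
  qf := h.qe
  ee := h.ff
  ff := h.ee
  ef i j := by rw [h.fe]; simp [eq_comm]
  aniso r hr := h.aniso r fun i => ⟨(hr i).2, (hr i).1⟩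

theorem polar_map {φ : V →ₗ[F] V} (hφ : ∀ v, Q (φ v) = Q v) (x y : V) : B (φ x) (φ y) = B x y := by
  have h1 := h.add (φ x) (φ y)
  rw [← map_add, hφ, hφ, hφ, h.add] at h1
  linear_combination -h1

/-- The part of `v` orthogonal to all pairs. -/
theorem perp_part (v : V) (i : Fin m) :
    B (v - ∑ j, (B v (f j) • e j + B v (e j) • f j)) (e i) = 0 ∧
      B (v - ∑ j, (B v (f j) • e j + B v (e j) • f j)) (f i) = 0 := by
  constructor <;>
    simp [map_sum, LinearMap.sum_apply, h.ee, h.ff, h.ef, h.fe, Finset.sum_add_distrib]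

end Frame

/-- The Eichler transformation, as a function. -/
def E (Q : V → F) (B : V →ₗ[F] V →ₗ[F] F) (w a z : V) : V :=
  z + (B z a - Q a * B z w) • w - B z w • a

theorem E_zero (h : Frame Q B e f) (w z : V) : E Q B w 0 z = z := by
  simp [E, h.q_zero]

theorem E_add (h : Frame Q B e f) {w a b : V} (hw : Q w = 0) (ha : B w a = 0) (hb : B w b = 0)
    (z : V) : E Q B w a (E Q B w b z) = E Q B w (a + b) z := by
  simp only [E, map_add, map_sub, LinearMap.add_apply, LinearMap.sub_apply, map_smul,
    LinearMap.smul_apply, smul_eq_mul, h.add, h.self_eq w, hw, h.comm b w, h.comm b a, ha, hb]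
  match_scalars <;> ring

theorem E_swap (h : Frame Q B e f) {w a : V} (hw : Q w = 0) (ha : Q a = 0) (c : F) (z : V) :
    E Q B w (c • a) z = E Q B a ((-c) • w) z := by
  simp only [E, map_smul, smul_eq_mul, h.smul, hw, ha]
  module

theorem E_smul (h : Frame Q B e f) (w a z : V) (d c : F) :
    E Q B (d • w) (c • a) z = E Q B w ((d * c) • a) z := by
  simp only [E, map_smul, smul_eq_mul, h.smul]
  module

theorem E_conj (h : Frame Q B e f) {φ ψ : V →ₗ[F] V} (hφ : ∀ v, Q (φ v) = Q v)
    (hψ : ∀ v, φ (ψ v) = v) (w a z : V) : φ (E Q B w a (ψ z)) = E Q B (φ w) (φ a) z := by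
  conv_rhs => rw [← hψ z]
  simp only [E, map_sub, map_add, map_smul, h.polar_map hφ, hφ]

variable {G : Type*} [Group G] (H : Subgroup G) (act : G →* Module.End F V)

/-- `E w a` is induced by an element of `H`. -/
def InH (Q : V → F) (B : V →ₗ[F] V →ₗ[F] F) (w a : V) : Prop :=
  ∃ g ∈ H, ∀ z, act g z = E Q B w a z

/-- Fixing the lines of the first `k` pairs. -/
def Fixes (e f : Fin m → V) (k : ℕ) (g : G) : Prop :=
  ∀ i : Fin m, (i : ℕ) < k → (∃ c : F, act g (e i) = c • e i) ∧ ∃ c : F, act g (f i) = c • f i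

/-- The elementary transformations needed. -/
structure Gens (Q : V → F) (B : V →ₗ[F] V →ₗ[F] F) (e f : Fin m → V) : Prop where
  pairE : ∀ k j : Fin m, k < j → ∀ c : F,
    InH H act Q B (e k) (c • e j) ∧ InH H act Q B (e k) (c • f j)
  pairF : ∀ k j : Fin m, k < j → ∀ c : F,
    InH H act Q B (f k) (c • e j) ∧ InH H act Q B (f k) (c • f j)
  restE : ∀ k r, (∀ i, B r (e i) = 0 ∧ B r (f i) = 0) → InH H act Q B (e k) r
  restF : ∀ k r, (∀ i, B r (e i) = 0 ∧ B r (f i) = 0) → InH H act Q B (f k) r

variable {H act}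

theorem Gens.swap (hg : Gens H act Q B e f) : Gens H act Q B f e where
  pairE k j hkj c := (hg.pairF k j hkj c).symm
  pairF k j hkj c := (hg.pairE k j hkj c).symm
  restE k r hr := hg.restF k r fun i => (hr i).symm
  restF k r hr := hg.restE k r fun i => (hr i).symm

theorem inH_add (h : Frame Q B e f) {w a b : V} (hw : Q w = 0) (ha : B w a = 0) (hb : B w b = 0)
    (h1 : InH H act Q B w a) (h2 : InH H act Q B w b) : InH H act Q B w (a + b) := by
  obtain ⟨g1, m1, e1⟩ := h1
  obtain ⟨g2, m2, e2⟩ := h2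
  refine ⟨g1 * g2, mul_mem m1 m2, fun z => ?_⟩
  rw [map_mul, Module.End.mul_apply, e2, e1, E_add h hw ha hb]

theorem inH_sum (h : Frame Q B e f) {w : V} (hw : Q w = 0) {κ : Type*} (s : Finset κ) (a : κ → V)
    (hperp : ∀ j ∈ s, B w (a j) = 0) (hIn : ∀ j ∈ s, InH H act Q B w (a j)) :
    InH H act Q B w (∑ j ∈ s, a j) := by
  classical
  induction s using Finset.induction_on with
  | empty => exact ⟨1, one_mem _, fun z => by rw [Finset.sum_empty, map_one, E_zero h]; rfl⟩
  | @insert j s hj ih =>
    rw [Finset.sum_insert hj]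
    refine inH_add h hw (hperp j (Finset.mem_insert_self j s)) ?_ (hIn j (Finset.mem_insert_self j s))
      (ih (fun i hi => hperp i (Finset.mem_insert_of_mem hi)) fun i hi => hIn i (Finset.mem_insert_of_mem hi))
    rw [map_sum]
    exact Finset.sum_eq_zero fun i hi => hperp i (Finset.mem_insert_of_mem hi)

/-- `E (e k) a` for `a` orthogonal to the pairs up to `k`. -/
theorem inH_e (h : Frame Q B e f) (hg : Gens H act Q B e f) (k : Fin m) {a : V}
    (ha : ∀ i : Fin m, i ≤ k → B a (e i) = 0 ∧ B a (f i) = 0) : InH H act Q B (e k) a := by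
  set r := a - ∑ j, (B a (f j) • e j + B a (e j) • f j) with hr
  have hdec : a = r + ∑ j, (B a (f j) • e j + B a (e j) • f j) := by rw [hr, sub_add_cancel]
  have hterm : ∀ j, B (e k) (B a (f j) • e j + B a (e j) • f j) = 0 := fun j => by
    rw [map_add, map_smul, map_smul, h.ee, h.ef, smul_eq_mul, smul_eq_mul]
    by_cases hj : k = j
    · subst hj; rw [(ha k le_rfl).1]; simp
    · rw [if_neg hj]; simp
  have hsum : InH H act Q B (e k) (∑ j, (B a (f j) • e j + B a (e j) • f j)) := by
    refine inH_sum h (h.qe k) _ _ (fun j _ => hterm j) fun j _ => ?_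
    rcases le_or_gt j k with hj | hj
    · rw [(ha j hj).1, (ha j hj).2, zero_smul, zero_smul, add_zero]
      exact ⟨1, one_mem _, fun z => by rw [map_one, E_zero h]; rfl⟩
    · refine inH_add h (h.qe k) ?_ ?_ (hg.pairE k j hj _).1 (hg.pairE k j hj _).2
      · rw [map_smul, h.ee, smul_zero]
      · rw [map_smul, h.ef, if_neg (ne_of_lt hj), smul_zero]
  rw [hdec]
  refine inH_add h (h.qe k) ?_ ?_ (hg.restE k r (h.perp_part a)) hsum
  · rw [h.comm]; exact (h.perp_part a k).1
  · rw [map_sum]; exact Finset.sum_eq_zero fun j _ => hterm j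

variable (hQ : ∀ g v, Q (act g v) = Q v)
include hQ

theorem act_inj (g : G) {v : V} (hv : act g v = 0) : v = 0 := by
  have h1 : act (g⁻¹ * g) v = 0 := by rw [map_mul, Module.End.mul_apply, hv, map_zero]
  rwa [inv_mul_cancel, map_one, Module.End.one_apply] at h1

/-- Clearing the coordinates of a singular vector. -/
theorem exists_kill (h : Frame Q B e f) (hg : Gens H act Q B e f) (k : Fin m) (v : V)
    (hv : Q v = 0) (hlow : ∀ i : Fin m, i < k → B v (e i) = 0 ∧ B v (f i) = 0) (hc : B v (f k) ≠ 0) :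
    ∃ g ∈ H, act g v = B v (f k) • e k ∧ act g (f k) = f k ∧
      ∀ i : Fin m, i < k → act g (e i) = e i ∧ act g (f i) = f i := by
  set c := B v (f k) with hcdef
  set s := B v (e k) with hsdef
  set a := c⁻¹ • (v - c • e k - s • f k) with hadef
  have ha : ∀ i : Fin m, i ≤ k → B a (e i) = 0 ∧ B a (f i) = 0 := by
    intro i hi
    rcases eq_or_lt_of_le hi with rfl | hi
    · simp [hadef, h.ee, h.ff, h.ef, h.fe, hcdef, hsdef]
    · simp [hadef, h.ee, h.ff, h.ef, h.fe, (hlow i hi).1, (hlow i hi).2, ne_of_lt hi, (ne_of_lt hi).symm]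
  obtain ⟨g, hgH, hgz⟩ := inH_e h.swap hg.swap k fun i hi => (ha i hi).symm
  have hva : c • a = v - c • e k - s • f k := by rw [hadef, smul_smul, mul_inv_cancel₀ hc, one_smul]
  have hdec : v = c • e k + s • f k + c • a := by rw [hva]; abel
  have hqa : c * s + c ^ 2 * Q a = 0 := by
    rw [hdec] at hv
    simp only [h.add, h.smul, h.qe, h.qf, map_add, map_smul, LinearMap.add_apply,
      LinearMap.smul_apply, smul_eq_mul, h.ef, h.comm _ a, (ha k le_rfl).1, (ha k le_rfl).2] at hv
    simp only [if_true, mul_one, mul_zero, add_zero, zero_add] at hv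
    linear_combination hv
  have hsq : s + c * Q a = 0 := by
    have : c * (s + c * Q a) = 0 := by linear_combination hqa
    exact (mul_eq_zero.1 this).resolve_left hc
  have hBva : B v a = c * (2 * Q a) := by
    conv_lhs => rw [hdec]
    simp [h.comm _ a, (ha k le_rfl).1, (ha k le_rfl).2, h.self_eq]
  refine ⟨g, hgH, ?_, ?_, fun i hi => ⟨?_, ?_⟩⟩
  · rw [hgz, E, hBva, ← hcdef]
    have : (c * (2 * Q a) - Q a * c) = -s := by linear_combination hsq
    rw [this, hva]; module
  · rw [hgz, E, h.ff, h.comm, (ha k le_rfl).2]; simp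
  · rw [hgz, E, h.ef, h.comm, (ha i hi.le).1, if_neg (ne_of_lt hi)]; simp
  · rw [hgz, E, h.ff, h.comm, (ha i hi.le).2]; simp

/-- Every isometry can be moved by `H` to fix the lines of the first `k` pairs. -/
theorem exists_reduce (h : Frame Q B e f) (hg : Gens H act Q B e f) (g : G) (k : ℕ) (hk : k ≤ m)
    (hlast : k < m ∨ ∃ r, (∀ i, B r (e i) = 0 ∧ B r (f i) = 0) ∧ Q r ≠ 0) :
    ∃ x ∈ H, Fixes act e f k (x * g) := by
  induction k with
  | zero => exact ⟨1, one_mem _, fun i hi => absurd hi (by omega)⟩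
  | succ n ih =>
    obtain ⟨x, hx, hfix⟩ := ih (by omega) (Or.inl (by omega))
    have hB : ∀ p q, B (act (x * g) p) (act (x * g) q) = B p q := fun p q => h.polar_map (hQ _) p q
    have hne : ∀ (q : G) (u : V), u ≠ 0 → act q u ≠ 0 := fun q u hu e => hu (act_inj hQ q e)
    set k : Fin m := ⟨n, by omega⟩ with hkdef
    have hek : ∀ i : Fin m, e i ≠ 0 := fun i e' => by simpa [e', h.ef] using h.ef i i
    have hfk : ∀ i : Fin m, f i ≠ 0 := fun i e' => by simpa [e', h.ef] using h.ef i i
    have hlow : ∀ u, (∀ i : Fin m, i < k → B u (e i) = 0 ∧ B u (f i) = 0) →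
        ∀ i : Fin m, i < k → B (act (x * g) u) (e i) = 0 ∧ B (act (x * g) u) (f i) = 0 := by
      intro u hu i hi
      obtain ⟨⟨c, hc⟩, d, hd⟩ := hfix i hi
      have hc0 : c ≠ 0 := fun e' => hne (x * g) _ (hek i) (by rw [hc, e', zero_smul])
      have hd0 : d ≠ 0 := fun e' => hne (x * g) _ (hfk i) (by rw [hd, e', zero_smul])
      have h1 := hB u (e i)
      have h2 := hB u (f i)
      rw [hc, map_smul, (hu i hi).1, smul_eq_mul, mul_eq_zero, or_iff_right hc0] at h1
      rw [hd, map_smul, (hu i hi).2, smul_eq_mul, mul_eq_zero, or_iff_right hd0] at h2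
      exact ⟨h1, h2⟩
    set v := act (x * g) (e k) with hvdef
    have hv : Q v = 0 := by rw [hvdef, hQ, h.qe]
    have hv0 : v ≠ 0 := hne _ _ (hek k)
    have hvlow := hlow (e k) fun i hi => ⟨h.ee k i, by rw [h.ef, if_neg (ne_of_gt hi)]⟩
    rw [← hvdef] at hvlow
    -- make the `e k` coordinate non-zero
    obtain ⟨y, hy, hyv, hyfix⟩ : ∃ y ∈ H, B (act y v) (f k) ≠ 0 ∧
        ∀ i : Fin m, i < k → act y (e i) = e i ∧ act y (f i) = f i := by
      by_cases hc : B v (f k) = 0
      swap
      · exact ⟨1, one_mem _, by simpa using hc, fun i _ => by simp⟩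
      suffices hex : ∃ a, (∀ i : Fin m, i ≤ k → B a (e i) = 0 ∧ B a (f i) = 0) ∧
          B v a - Q a * B v (e k) ≠ 0 by
        obtain ⟨a, ha, hne'⟩ := hex
        obtain ⟨y, hy, hyz⟩ := inH_e h hg k ha
        refine ⟨y, hy, ?_, fun i hi => ⟨?_, ?_⟩⟩
        · rw [hyz, E]
          simpa [hc, h.ef, (ha k le_rfl).2] using hne'
        · rw [hyz, E, h.ee, h.comm, (ha i hi.le).1]; simp
        · rw [hyz, E, h.fe, h.comm, (ha i hi.le).2, if_neg (ne_of_gt hi)]; simp
      by_contra hcon
      push Not at hcon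
      have hj : ∀ j : Fin m, k < j → B v (e j) = 0 ∧ B v (f j) = 0 := by
        intro j hj
        have h1 := hcon (e j) fun i hi => ⟨h.ee j i, by rw [h.ef, if_neg (ne_of_gt (hi.trans_lt hj))]⟩
        have h2 := hcon (f j) fun i hi => ⟨by rw [h.fe, if_neg (ne_of_lt (hi.trans_lt hj))], h.ff j i⟩
        rw [h.qe, zero_mul, sub_zero] at h1
        rw [h.qf, zero_mul, sub_zero] at h2
        exact ⟨h1, h2⟩
      have hall : ∀ i : Fin m, i ≠ k → B v (e i) = 0 ∧ B v (f i) = 0 := fun i hi =>
        (lt_or_gt_of_ne hi).elim (hvlow i) (hj i)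
      have hs : B v (e k) = 0 := by
        by_cases hkm : n + 1 < m
        · set j : Fin m := ⟨n + 1, hkm⟩
          have hkj : k < j := Nat.lt_succ_self n
          have h1 := hcon (e j + f j) fun i hi => by
            have := ne_of_lt (hi.trans_lt hkj)
            simp [h.ee, h.ff, h.ef, h.fe, this, this.symm]
          have hq : Q (e j + f j) = 1 := by simp [h.add, h.qe, h.qf, h.ef]
          rw [map_add, (hj j hkj).1, (hj j hkj).2, hq] at h1
          simpa using h1
        · obtain ⟨r, hr, hrq⟩ := hlast.resolve_left hkm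
          set r0 := v - B v (e k) • f k with hr0
          have hperp : ∀ i, B r0 (e i) = 0 ∧ B r0 (f i) = 0 := fun i => by
            by_cases hi : i = k
            · subst hi; simp [hr0, h.fe, h.ff, hc]
            · simp [hr0, h.fe, h.ff, (hall i hi).1, (hall i hi).2, hi]
          have hq0 : Q r0 = 0 := by
            have h2 := h.add r0 (B v (e k) • f k)
            rw [hr0, sub_add_cancel, ← hr0, hv, h.smul, h.qf, map_smul, (hperp k).2] at h2
            simpa using h2.symm
          have h0 : v = B v (e k) • f k := by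
            rw [← sub_eq_zero]; exact hr0 ▸ h.aniso r0 hperp hq0
          have h1 := hcon r fun i _ => hr i
          have hvr : B v r = 0 := by
            conv_lhs => rw [h0]
            rw [map_smul, LinearMap.smul_apply, h.comm (f k) r, (hr k).2, smul_zero]
          rw [hvr, zero_sub, neg_eq_zero, mul_eq_zero] at h1
          exact h1.resolve_left hrq
      refine hv0 (h.aniso v (fun i => ?_) hv)
      by_cases hi : i = k
      · subst hi; exact ⟨hs, hc⟩
      · exact hall i hi
    have hylow : ∀ u, (∀ i : Fin m, i < k → B u (e i) = 0 ∧ B u (f i) = 0) →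
        ∀ i : Fin m, i < k → B (act y u) (e i) = 0 ∧ B (act y u) (f i) = 0 := by
      intro u hu i hi
      have h1 := h.polar_map (hQ y) u (e i)
      have h2 := h.polar_map (hQ y) u (f i)
      rw [(hyfix i hi).1, (hu i hi).1] at h1
      rw [(hyfix i hi).2, (hu i hi).2] at h2
      exact ⟨h1, h2⟩
    obtain ⟨z, hz, hzv, -, hzfix⟩ := exists_kill hQ h hg k (act y v) (by rw [hQ, hv])
      (hylow v hvlow) hyv
    set c := B (act y v) (f k) with hcdef
    -- now the image of `f k`
    set u := act (z * y * (x * g)) (f k) with hudef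
    have hfix1 : ∀ i : Fin m, i < k → (∃ c : F, act (z * y * (x * g)) (e i) = c • e i) ∧
        ∃ c : F, act (z * y * (x * g)) (f i) = c • f i := by
      intro i hi
      obtain ⟨⟨a, ha⟩, b, hb⟩ := hfix i hi
      simp only [map_mul, Module.End.mul_apply] at ha hb ⊢
      exact ⟨⟨a, by rw [ha, map_smul, (hyfix i hi).1, map_smul, (hzfix i hi).1]⟩,
        b, by rw [hb, map_smul, (hyfix i hi).2, map_smul, (hzfix i hi).2]⟩
    have hek' : act (z * y * (x * g)) (e k) = c • e k := by
      rw [map_mul, map_mul, Module.End.mul_apply, Module.End.mul_apply, ← hvdef, hzv]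
    have huk : c * B u (e k) = 1 := by
      have h1 := h.polar_map (hQ (z * y * (x * g))) (f k) (e k)
      rw [hek', ← hudef, map_smul, h.fe, if_pos rfl] at h1
      exact h1
    have hulow : ∀ i : Fin m, i < k → B u (e i) = 0 ∧ B u (f i) = 0 := by
      intro i hi
      obtain ⟨⟨a, ha⟩, b, hb⟩ := hfix1 i hi
      have ha0 : a ≠ 0 := fun e' => hne _ _ (hek i) (by rw [ha, e', zero_smul])
      have hb0 : b ≠ 0 := fun e' => hne _ _ (hfk i) (by rw [hb, e', zero_smul])
      have h1 := h.polar_map (hQ (z * y * (x * g))) (f k) (e i)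
      have h2 := h.polar_map (hQ (z * y * (x * g))) (f k) (f i)
      rw [ha, ← hudef, map_smul, h.fe, if_neg (ne_of_lt hi), smul_eq_mul, mul_eq_zero,
        or_iff_right ha0] at h1
      rw [hb, ← hudef, map_smul, h.ff, smul_eq_mul, mul_eq_zero, or_iff_right hb0] at h2
      exact ⟨h1, h2⟩
    obtain ⟨w, hw, hwu, hwe, hwfix⟩ := exists_kill hQ h.swap hg.swap k u (by rw [hudef, hQ, h.qf])
      (fun i hi => (hulow i hi).symm) (right_ne_zero_of_mul_eq_one huk)
    refine ⟨w * z * y * x, mul_mem (mul_mem (mul_mem hw hz) hy) hx, fun i hi => ?_⟩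
    have hassoc : w * z * y * x * g = w * (z * y * (x * g)) := by group
    rw [hassoc, map_mul]
    simp only [Module.End.mul_apply]
    rcases Nat.lt_succ_iff_lt_or_eq.1 hi with hi | hi
    · obtain ⟨⟨a, ha⟩, b, hb⟩ := hfix1 i hi
      exact ⟨⟨a, by rw [ha, map_smul, (hwfix i hi).2]⟩, b, by rw [hb, map_smul, (hwfix i hi).1]⟩
    · have : i = k := Fin.ext hi
      subst this
      exact ⟨⟨c, by rw [hek', map_smul, hwe]⟩, _, hwu⟩

end CfsgLib.Classical.ChevModel
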