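import Cfsg.Agent.Lib.Lie.Chev.Checks
import Cfsg.Prelude.Def_Steinberg
import Cfsg.Prelude.Def_Classical
import Cfsg.Agent.Lib.Classical.ChevModel.Reduce

/-!
# Orthogonal models of Steinberg groups

A table assigns to every root `r` basis vectors `w`, `a` and a sign `s`; the root element `x_r(t)` is
the Eichler transformation of `w` and `s t a`. The Steinberg relations are checked on coefficient
lists, so hold over every field.
-/

set_option autoImplicit false

namespace CfsgLib.Classical.ChevModel

open Cfsg.Lie (ChevalleyDatum)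
open CfsgLib.Lie.Chev (evalV monP sumP eqV eqV_spec list_sum_flatMap list_sum_filter list_sum_eq_zero)
open scoped Matrix

/-- The table of a model: the dimension, the pairing of the basis vectors, the index of the
anisotropic vector (out of range if there is none) and the roots. -/
structure Tab where
  dim : ℕ
  beta : List ℕ
  anis : ℕ
  roots : List (ℕ × ℕ × ℤ)

namespace Tab

variable (T : Tab)

/-- the partner of a basis vector -/
def bet (i : ℕ) : ℕ := T.beta.getD i 0

/-- the row of a root -/
def wroot (r : ℕ) : ℕ := (T.roots.getD r (0, 0, 0)).1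
/-- the second vector of a root -/
def aroot (r : ℕ) : ℕ := (T.roots.getD r (0, 0, 0)).2.1
/-- the sign of a root -/
def sgn (r : ℕ) : ℤ := (T.roots.getD r (0, 0, 0)).2.2

/-- the entries (degree, row, column, coefficient) of `x_r(t) - 1` -/
def ents (r : ℕ) : List (ℕ × ℕ × ℕ × ℤ) :=
  bif Nat.beq (T.aroot r) T.anis then
    [(1, T.wroot r, T.anis, 2 * T.sgn r), (1, T.anis, T.bet (T.wroot r), -T.sgn r),
      (2, T.wroot r, T.bet (T.wroot r), -1)]
  else [(1, T.wroot r, T.bet (T.aroot r), T.sgn r), (1, T.aroot r, T.bet (T.wroot r), -T.sgn r)]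

/-- apply `x_r(P)` to a sparse vector -/
def actT (r : ℕ) (P : ℕ → List (ℕ × ℕ × ℤ)) (v : List (ℕ × ℕ × ℕ × ℤ)) : List (ℕ × ℕ × ℕ × ℤ) :=
  v ++ v.flatMap fun e =>
    ((T.ents r).filter fun f => Nat.beq f.2.2.1 e.2.2.1).flatMap fun f =>
      (P f.1).map fun p => (e.1 + p.1, e.2.1 + p.2.1, f.2.1, e.2.2.2 * f.2.2.2 * p.2.2)

/-- a basis vector -/
def basisT (c : ℕ) : List (ℕ × ℕ × ℕ × ℤ) := [(0, 0, c, 1)]

/-- cancel `t s = 1` -/
def reduce (v : List (ℕ × ℕ × ℕ × ℤ)) : List (ℕ × ℕ × ℕ × ℤ) :=
  v.map fun e => (e.1 - min e.1 e.2.1, e.2.1 - min e.1 e.2.1, e.2.2)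

/-- the weight of a basis vector on a root -/
def hexp (r c : ℕ) : ℤ :=
  bif Nat.beq (T.aroot r) T.anis then
    (bif Nat.beq c (T.wroot r) then 2 else bif Nat.beq c (T.bet (T.wroot r)) then -2 else 0)
  else
    (bif Nat.beq c (T.wroot r) || Nat.beq c (T.aroot r) then 1
      else bif Nat.beq c (T.bet (T.wroot r)) || Nat.beq c (T.bet (T.aroot r)) then -1 else 0)

/-- the columns of all entries are in range -/
def chkCol (D : ChevalleyDatum) : Bool :=
  (List.range D.nroots).all fun r => Nat.blt (D.neg r) D.nroots &&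
    (T.ents r).all fun f => Nat.blt f.2.2.1 T.dim

/-- additivity -/
def chkAddT (D : ChevalleyDatum) : Bool :=
  (List.range D.nroots).all fun r => (List.range T.dim).all fun c =>
    eqV (T.actT r (monP 1 0 1) (T.actT r (monP 0 1 1) (basisT c))) (T.actT r sumP (basisT c))

/-- the commutator formula -/
def chkCommT (D : ChevalleyDatum) : Bool :=
  (List.range D.nroots).all fun r => (List.range D.nroots).all fun s =>
    Nat.beq s r || Nat.beq s (D.neg r) ||
    ((D.commTerms r s).all fun k => Nat.blt k.1 D.nroots) && (List.range T.dim).all fun c =>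
      eqV (T.actT s (monP 0 1 1) (T.actT r (monP 1 0 1) (basisT c)))
        (T.actT r (monP 1 0 1) (T.actT s (monP 0 1 1)
          ((D.commTerms r s).foldr
            (fun k v => T.actT k.1 (monP k.2.2.1 k.2.2.2 (k.2.1 * (-1) ^ k.2.2.1)) v) (basisT c))))

/-- the torus elements are diagonal -/
def chkH (D : ChevalleyDatum) : Bool :=
  (List.range D.nroots).all fun r => (List.range T.dim).all fun c =>
    eqV (reduce
      (T.actT r (monP 1 0 1) (T.actT (D.neg r) (monP 0 1 (-1)) (T.actT r (monP 1 0 1)
        (T.actT r (monP 0 0 (-1)) (T.actT (D.neg r) (monP 0 0 1) (T.actT r (monP 0 0 (-1))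
          (basisT c))))))))
      [((T.hexp r c).toNat, (-(T.hexp r c)).toNat, c, 1)]

end Tab

theorem evalV_reduce {F : Type*} [Field F] {t u : F} (htu : t * u = 1) (v : List (ℕ × ℕ × ℕ × ℤ))
    (j : ℕ) : evalV t u (Tab.reduce v) j = evalV t u v j := by
  simp only [evalV, Tab.reduce, List.map_map]
  refine congrArg List.sum (List.map_congr_left fun e _ => ?_)
  simp only [Function.comp_apply]
  split_ifs
  · set k := min e.1 e.2.1
    have h1 : t ^ e.1 = t ^ (e.1 - k) * t ^ k := by rw [← pow_add]; congr 1; omega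
    have h2 : u ^ e.2.1 = u ^ (e.2.1 - k) * u ^ k := by rw [← pow_add]; congr 1; omega
    rw [h1, h2]
    have h3 : t ^ k * u ^ k = 1 := by rw [← mul_pow, htu, one_pow]
    linear_combination -((e.2.2.2 : F) * t ^ (e.1 - k) * u ^ (e.2.1 - k)) * h3
  · rfl

section

variable (T : Tab) {ι : Type} [Fintype ι] [DecidableEq ι] (code : ι → ℕ) (F : Type*) [Field F]

/-- the root element -/
def rootM (r : ℕ) (t : F) : Matrix ι ι F :=
  1 + Matrix.of fun i j =>
    ((T.ents r).map fun f => if f.2.1 = code i ∧ f.2.2.1 = code j then (f.2.2.2 : F) * t ^ f.1 else 0).sum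

variable {F}

omit [DecidableEq ι] in
/-- the coordinate with code `c` -/
def valAt (z : ι → F) (c : ℕ) : F := ∑ j, if code j = c then z j else 0

theorem rootM_mulVec (r : ℕ) (t : F) (z : ι → F) (i : ι) :
    (rootM T code F r t *ᵥ z) i = z i +
      ((T.ents r).map fun f => if f.2.1 = code i then (f.2.2.2 : F) * t ^ f.1 * valAt code z f.2.2.1
        else 0).sum := by
  rw [rootM, Matrix.add_mulVec, Matrix.one_mulVec, Pi.add_apply]
  congr 1
  simp only [Matrix.mulVec, dotProduct, Matrix.of_apply]
  induction T.ents r with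
  | nil => simp
  | cons f L ih =>
    simp only [List.map_cons, List.sum_cons, add_mul, Finset.sum_add_distrib]
    rw [ih]
    congr 1
    by_cases ha : f.2.1 = code i
    · rw [if_pos ha, valAt, Finset.mul_sum]
      refine Finset.sum_congr rfl fun j _ => ?_
      by_cases hb : code j = f.2.2.1
      · rw [if_pos ⟨ha, hb.symm⟩, if_pos hb]
      · rw [if_neg fun h => hb h.2.symm, if_neg hb, zero_mul, mul_zero]
    · rw [if_neg ha]
      exact Finset.sum_eq_zero fun j _ => by rw [if_neg fun h => ha h.1, zero_mul]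

variable {D : ChevalleyDatum} (hcode : Function.Injective code) (hlt : ∀ i, code i < T.dim)
  (hsurj : ∀ c < T.dim, ∃ i, code i = c)
include hcode

omit [DecidableEq ι] in
theorem valAt_code (z : ι → F) (i : ι) : valAt code z (code i) = z i := by
  classical
  rw [valAt, Finset.sum_eq_single i]
  · rw [if_pos rfl]
  · intro j _ hj; rw [if_neg fun h => hj (hcode h)]
  · simp

include hsurj

omit [DecidableEq ι] in
theorem valAt_evalV (t u : F) (v : List (ℕ × ℕ × ℕ × ℤ)) {c : ℕ} (hc : c < T.dim) :
    valAt code (fun i => evalV t u v (code i)) c = evalV t u v c := by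
  obtain ⟨i, rfl⟩ := hsurj c hc
  exact valAt_code code hcode _ i

variable (hcol : T.chkCol D = true)
include hcol

omit hcode hsurj in
theorem col_lt {r : ℕ} (hr : r < D.nroots) : D.neg r < D.nroots ∧ ∀ f ∈ T.ents r, f.2.2.1 < T.dim := by
  simp only [Tab.chkCol, List.all_eq_true, List.mem_range, Bool.and_eq_true] at hcol
  exact ⟨Nat.le_of_ble_eq_true (hcol r hr).1, fun f hf => Nat.le_of_ble_eq_true ((hcol r hr).2 f hf)⟩

theorem actT_spec {r : ℕ} (hr : r < D.nroots) (t u τ : F) (P : ℕ → List (ℕ × ℕ × ℤ))
    (hP : ∀ k, ((P k).map fun p => (p.2.2 : F) * t ^ p.1 * u ^ p.2.1).sum = τ ^ k)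
    (v : List (ℕ × ℕ × ℕ × ℤ)) :
    rootM T code F r τ *ᵥ (fun i => evalV t u v (code i)) =
      fun i => evalV t u (T.actT r P v) (code i) := by
  funext i
  rw [rootM_mulVec]
  have e1 : evalV t u (T.actT r P v) (code i) = evalV t u v (code i) +
      ((T.ents r).map fun f => if f.2.1 = code i
        then (f.2.2.2 : F) * τ ^ f.1 * evalV t u v f.2.2.1 else 0).sum := by
    simp only [evalV, Tab.actT, List.map_append, List.sum_append]
    congr 1
    induction v with
    | nil => simp
    | cons e v ih =>
      simp only [List.flatMap_cons, List.map_append, List.sum_append, List.map_cons, List.sum_cons]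
      rw [ih, list_sum_flatMap, list_sum_filter, ← List.sum_map_add]
      refine congrArg List.sum (List.map_congr_left fun f _ => ?_)
      by_cases hc : f.2.2.1 = e.2.2.1
      · rw [show Nat.beq f.2.2.1 e.2.2.1 = true by simp [hc], cond_true]
        by_cases ha : f.2.1 = code i
        · rw [if_pos ha, if_pos ha, hc, if_pos rfl, List.map_map, ← hP f.1]
          simp only [Function.comp_def, ha, if_true]
          rw [mul_add]
          congr 1
          rw [← List.sum_map_mul_left, ← List.sum_map_mul_right]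
          refine congrArg List.sum (List.map_congr_left fun p _ => ?_)
          push_cast; rw [pow_add, pow_add]; ring
        · rw [if_neg ha, if_neg ha, List.map_map]
          simp only [Function.comp_def, ha, if_false]
          rw [list_sum_eq_zero fun p _ => rfl, add_zero]
      · rw [show Nat.beq f.2.2.1 e.2.2.1 = false from
          Bool.eq_false_iff.2 fun h => hc (Nat.eq_of_beq_eq_true h), cond_false, if_neg (Ne.symm hc)]
        simp
  rw [e1]
  congr 1
  refine congrArg List.sum (List.map_congr_left fun f hf => ?_)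
  rw [valAt_evalV T code hcode hsurj _ _ _ ((col_lt T hcol hr).2 f hf)]

omit hsurj hcol in
theorem evalV_basis (t u : F) (j : ι) :
    (fun i => evalV t u (Tab.basisT (code j)) (code i)) = Pi.single j (1 : F) := by
  funext i
  simp only [evalV, Tab.basisT, List.map_cons, List.map_nil, List.sum_cons, List.sum_nil]
  by_cases hij : i = j
  · subst hij; simp
  · rw [Pi.single_eq_of_ne hij, if_neg fun e => hij (hcode e.symm)]; simp

omit hcode hsurj hcol in
theorem monP_spec (t u : F) (p q : ℕ) (m : ℤ) (k : ℕ) :
    ((monP p q m k).map fun x => (x.2.2 : F) * t ^ x.1 * u ^ x.2.1).sum =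
      ((m : F) * t ^ p * u ^ q) ^ k := by
  simp only [monP, List.map_cons, List.map_nil, List.sum_cons, List.sum_nil, add_zero]
  rw [show Nat.mul k p = p * k from Nat.mul_comm k p, show Nat.mul k q = q * k from Nat.mul_comm k q,
    mul_pow, mul_pow, ← pow_mul, ← pow_mul, Int.cast_pow]

omit hcode hsurj hcol in
theorem sumP_spec (t u : F) (k : ℕ) :
    ((sumP k).map fun x => (x.2.2 : F) * t ^ x.1 * u ^ x.2.1).sum = (t + u) ^ k := by
  rw [add_pow]
  simp only [sumP, List.map_map, Function.comp_def]
  rw [← List.sum_toFinset _ (List.nodup_range), List.toFinset_range]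
  refine Finset.sum_congr rfl fun j _ => ?_
  simp; ring

include hlt

theorem rootM_add (hadd : T.chkAddT D = true) {r : ℕ} (hr : r < D.nroots) (t u : F) :
    rootM T code F r t * rootM T code F r u = rootM T code F r (t + u) := by
  refine Matrix.ext_of_mulVec_single fun j => ?_
  simp only [Tab.chkAddT, List.all_eq_true, List.mem_range] at hadd
  rw [← Matrix.mulVec_mulVec, ← evalV_basis code hcode t u j,
    actT_spec T code hcode hsurj hcol hr t u u (monP 0 1 1) (fun k => by rw [monP_spec]; simp),
    actT_spec T code hcode hsurj hcol hr t u t (monP 1 0 1) (fun k => by rw [monP_spec]; simp),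
    actT_spec T code hcode hsurj hcol hr t u (t + u) sumP (fun k => sumP_spec t u k)]
  funext i
  exact eqV_spec (hadd r hr _ (hlt j)) t u _

omit hlt in
theorem word_spec (L : List (ℕ × ℤ × ℕ × ℕ)) (hL : ∀ k ∈ L, k.1 < D.nroots) (t u : F) (j : ι) :
    (((L.map fun c => (c.1, (c.2.1 : F) * (-t) ^ c.2.2.1 * u ^ c.2.2.2)).map
        fun p => rootM T code F p.1 p.2).prod) *ᵥ Pi.single j 1 =
      fun i => evalV t u (L.foldr
        (fun k v => T.actT k.1 (monP k.2.2.1 k.2.2.2 (k.2.1 * (-1) ^ k.2.2.1)) v)
        (Tab.basisT (code j))) (code i) := by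
  induction L with
  | nil =>
    rw [List.map_nil, List.map_nil, List.prod_nil, Matrix.one_mulVec, List.foldr_nil,
      evalV_basis code hcode t u j]
  | cons k L ih =>
    rw [List.map_cons, List.map_cons, List.prod_cons, ← Matrix.mulVec_mulVec,
      ih fun x hx => hL x (List.mem_cons_of_mem _ hx), List.foldr_cons]
    refine actT_spec T code hcode hsurj hcol (hL k (List.mem_cons_self ..)) t u _ _ (fun i => ?_) _
    rw [monP_spec]
    congr 1
    push_cast
    rw [neg_pow]
    ring

theorem rootM_comm (hcomm : T.chkCommT D = true) {r s : ℕ} (hr : r < D.nroots) (hs : s < D.nroots)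
    (h1 : s ≠ r) (h2 : s ≠ D.neg r) (t u : F) :
    rootM T code F s u * rootM T code F r t =
      rootM T code F r t * rootM T code F s u *
        ((D.commWord F r s t u).map fun p => rootM T code F p.1 p.2).prod := by
  refine Matrix.ext_of_mulVec_single fun j => ?_
  simp only [Tab.chkCommT, List.all_eq_true, List.mem_range, Bool.or_eq_true, Bool.and_eq_true] at hcomm
  obtain ⟨hk, hc⟩ := (hcomm r hr s hs).resolve_left fun e =>
    e.elim (fun e => h1 (Nat.eq_of_beq_eq_true e)) fun e => h2 (Nat.eq_of_beq_eq_true e)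
  rw [← Matrix.mulVec_mulVec, ← Matrix.mulVec_mulVec, ← Matrix.mulVec_mulVec,
    ChevalleyDatum.commWord,
    word_spec T code hcode hsurj hcol _ (fun k hk' => Nat.le_of_ble_eq_true (hk k hk')) t u j,
    ← evalV_basis code hcode t u j,
    actT_spec T code hcode hsurj hcol hr t u t (monP 1 0 1) (fun k => by rw [monP_spec]; simp),
    actT_spec T code hcode hsurj hcol hs t u u (monP 0 1 1) (fun k => by rw [monP_spec]; simp),
    actT_spec T code hcode hsurj hcol hs t u u (monP 0 1 1) (fun k => by rw [monP_spec]; simp),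
    actT_spec T code hcode hsurj hcol hr t u t (monP 1 0 1) (fun k => by rw [monP_spec]; simp)]
  funext i
  exact eqV_spec (hc _ (hlt j)) t u _

theorem rootM_h (hH : T.chkH D = true) {r : ℕ} (hr : r < D.nroots) {t : F} (ht : t ≠ 0) :
    ((D.hWord r t).map fun p => rootM T code F p.1 p.2).prod =
      Matrix.diagonal fun i => t ^ T.hexp r (code i) := by
  refine Matrix.ext_of_mulVec_single fun j => ?_
  simp only [Tab.chkH, List.all_eq_true, List.mem_range] at hH
  have hn := (col_lt T hcol hr).1
  simp only [ChevalleyDatum.hWord, ChevalleyDatum.nWord, List.cons_append, List.nil_append,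
    List.map_cons, List.map_nil, List.prod_cons, List.prod_nil, mul_one, inv_neg, inv_one, neg_neg,
    ← Matrix.mulVec_mulVec]
  rw [← evalV_basis code hcode t t⁻¹ j,
    actT_spec T code hcode hsurj hcol hr t t⁻¹ (-1) (monP 0 0 (-1)) (fun k => by rw [monP_spec]; simp),
    actT_spec T code hcode hsurj hcol hn t t⁻¹ 1 (monP 0 0 1) (fun k => by rw [monP_spec]; simp),
    actT_spec T code hcode hsurj hcol hr t t⁻¹ (-1) (monP 0 0 (-1)) (fun k => by rw [monP_spec]; simp),
    actT_spec T code hcode hsurj hcol hr t t⁻¹ t (monP 1 0 1) (fun k => by rw [monP_spec]; simp),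
    actT_spec T code hcode hsurj hcol hn t t⁻¹ (-t⁻¹) (monP 0 1 (-1)) (fun k => by rw [monP_spec]; simp),
    actT_spec T code hcode hsurj hcol hr t t⁻¹ t (monP 1 0 1) (fun k => by rw [monP_spec]; simp)]
  funext i
  rw [← evalV_reduce (mul_inv_cancel₀ ht), eqV_spec (hH r hr _ (hlt j)) t t⁻¹ (code i),
    evalV_basis code hcode t t⁻¹ j, Matrix.mulVec_single_one]
  simp only [evalV, List.map_cons, List.map_nil, List.sum_cons, List.sum_nil, add_zero,
    Matrix.col_apply, Matrix.diagonal_apply]
  by_cases hij : i = j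
  · subst hij
    rw [if_pos rfl, if_pos rfl, Int.cast_one, one_mul, inv_pow, ← zpow_natCast t,
      ← zpow_natCast t, ← div_eq_mul_inv, ← zpow_sub₀ ht]
    congr 1
    omega
  · rw [if_neg fun e => hij (hcode e.symm), if_neg hij]

end

end CfsgLib.Classical.ChevModel
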